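import Groth.Agent.L17.Kun.AffinePush
import Groth.Agent.L17.PushQCoh
import Groth.Agent.L14.PicSurj.Main

/-!
# The projection formula over an open where the morphism is affine
-/

set_option autoImplicit false
set_option linter.style.haveILetI false
set_option backward.isDefEq.respectTransparency.types false

universe u

open CategoryTheory CategoryTheory.Limits AlgebraicGeometry TopologicalSpace Opposite

noncomputable section

namespace Groth.L27.CohAmple

variable {X Y : Scheme.{u}} (f : Y ⟶ X)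

/-- The projection formula for an affine morphism and quasi-coherent modules. -/
theorem nonempty_projection_affine [IsAffineHom f] (M : Y.Modules) [Coh.IsQCoh M] (E : X.Modules) [Coh.IsQCoh E] :
    Nonempty (CohB1.tensorMod ((Scheme.Modules.pushforward f).obj M) E ≅
      (Scheme.Modules.pushforward f).obj (CohB1.tensorMod M ((Scheme.Modules.pullback f).obj E))) := by
  have sq : IsPullback (𝟙 Y) f f (𝟙 X) := IsPullback.of_horiz_isIso ⟨by simp⟩
  haveI hiso := Groth.L17.Kun.isIso_θc f (𝟙 X) (𝟙 Y) f sq E M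
  exact ⟨Groth.L00.Tensor.tensorComm _ _ ≪≫
      Groth.L00.Tensor.tensorIso (Iso.refl E) ((Scheme.Modules.pullbackId X).app _).symm ≪≫
      (@asIso _ _ _ _ (Groth.L17.FlatPair.θc f (𝟙 X) (𝟙 Y) f sq.w E M) hiso) ≪≫
      (Scheme.Modules.pushforward f).mapIso
        (Groth.L00.Tensor.tensorIso (Iso.refl _) ((Scheme.Modules.pullbackId Y).app M) ≪≫
          Groth.L00.Tensor.tensorComm _ _)⟩

/-- Restriction of a direct image. -/
def pushRestrict (V : X.Opens) (M : Y.Modules) :
    ((Scheme.Modules.pushforward f).obj M).restrict V.ι ≅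
      (Scheme.Modules.pushforward (f ∣_ V)).obj (M.restrict (f ⁻¹ᵁ V).ι) :=
  (Groth.L17.PushQCoh.pushRestrictIso f V.ι (f ⁻¹ᵁ V).ι (f ∣_ V)
    (by rw [Scheme.Opens.opensRange_ι, Scheme.Opens.opensRange_ι]) (morphismRestrict_ι f V)).app M

/-- Over an open where `f` is affine, `f_* O ⊗ K` is `f_* f^* K`. -/
theorem nonempty_pushUnit_tensor_restrict (V : X.Opens) [IsAffineHom (f ∣_ V)] (K : X.Modules) [Coh.IsQCoh K] :
    Nonempty ((CohB1.tensorMod ((Scheme.Modules.pushforward f).obj (Coh.structureModule Y)) K).restrict V.ι ≅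
      ((Scheme.Modules.pushforward f).obj ((Scheme.Modules.pullback f).obj K)).restrict V.ι) := by
  haveI : Coh.IsQCoh (K.restrict V.ι) := Scheme.Modules.isQuasicoherent_restrictFunctor _ K
  haveI : Coh.IsQCoh (Coh.structureModule (f ⁻¹ᵁ V).toScheme) := Groth.L21.Extend.isQCoh_of_isInvertible
    (Groth.L18.Ample.isInvertible_structureModule _)
  obtain ⟨e⟩ := nonempty_projection_affine (f ∣_ V) (Coh.structureModule (f ⁻¹ᵁ V).toScheme) (K.restrict V.ι)
  exact ⟨(Groth.L00.Tensor.tensorRestrict V.ι _ _).symm ≪≫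
    Groth.L00.Tensor.tensorIso (pushRestrict f V _ ≪≫
      (Scheme.Modules.pushforward (f ∣_ V)).mapIso (Scheme.Modules.restrictUnitIso (f ⁻¹ᵁ V).ι)) (Iso.refl _) ≪≫
    e ≪≫
    (Scheme.Modules.pushforward (f ∣_ V)).mapIso
      (Groth.L00.Tensor.tensorComm _ _ ≪≫ Groth.L00.Tensor.tensorUnitRight _ ≪≫
        Groth.L14.PicSurj.pullbackRestrictIso f V K) ≪≫
    (pushRestrict f V _).symm⟩

/-- Direct images agree over `V` when the modules agree over its preimage. -/
theorem nonempty_push_restrict_congr (V : X.Opens) {M M' : Y.Modules}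
    (h : Nonempty (M.restrict (f ⁻¹ᵁ V).ι ≅ M'.restrict (f ⁻¹ᵁ V).ι)) :
    Nonempty (((Scheme.Modules.pushforward f).obj M).restrict V.ι ≅
      ((Scheme.Modules.pushforward f).obj M').restrict V.ι) := by
  obtain ⟨e⟩ := h
  exact ⟨pushRestrict f V M ≪≫ (Scheme.Modules.pushforward (f ∣_ V)).mapIso e ≪≫ (pushRestrict f V M').symm⟩

end Groth.L27.CohAmple
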