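import Groth.Agent.L10.FMK.SuppDim
import Groth.Agent.L16.Devissage
import Groth.Agent.L16.CohLinear
import Groth.Agent.L16.CohGab.Open
import Groth.Agent.L03.Euler.Basic
import Groth.Agent.L22.Inter.Fga

/-!
# Top cohomology and maps which are isomorphisms in small codimension
-/

set_option autoImplicit false
set_option linter.style.haveILetI false
set_option backward.isDefEq.respectTransparency false
set_option backward.isDefEq.respectTransparency.types false

universe u

open CategoryTheory CategoryTheory.Limits AlgebraicGeometry TopologicalSpace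

noncomputable section

namespace Groth.L27.CohAmple

open Groth.L16.Devissage

variable {X : Scheme.{u}} [IsNoetherian X]

/-- A module supported in codimension `≥ c` on a space of dimension `≤ g` has no cohomology in degree
`p` with `g < c + p`. -/
theorem subsingleton_HH_of_supp {g : ℕ} (hg : topologicalKrullDim X ≤ (g : WithBot ℕ∞)) (M : X.Modules) (c : ℕ)
    (hM : ∀ y : X, y ∈ CohB1.support M → (c : WithBot ℕ∞) ≤ ringKrullDim ↑(X.presheaf.stalk y))
    (p : ℕ) (hp : g < c + p) : Subsingleton (Coh.HH X M p) := by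
  rcases Nat.eq_zero_or_pos p with rfl | hp0
  · refine Groth.L03.Euler.subsingleton_HH_of_isZero
      ((Groth.L21.Mod.isZero_iff_support_eq_empty M).2 (Set.eq_empty_of_forall_notMem fun y hy => ?_)) 0
    have hc := hM y hy
    have h1 := (Order.coheight_le_krullDim y).trans (Groth.L10.FMK.krullDim_points.symm.trans_le hg)
    rw [ringKrullDim_stalk_eq_coheight] at hc
    have h2 : (c : ℕ∞) ≤ (g : ℕ∞) := WithBot.coe_le_coe.1 (hc.trans h1)
    have := ENat.coe_le_coe.1 h2
    omega
  · exact Groth.L10.FMK.subsingleton_HH_of_codim hg M c hM p hp hp0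

/-- Points outside an open contain only stalks of dimension at least `c`. -/
def CodimGE (U : X.Opens) (c : ℕ) : Prop :=
  ∀ y : X, y ∉ U → (c : WithBot ℕ∞) ≤ ringKrullDim ↑(X.presheaf.stalk y)

theorem hmap_fac {A B : X.Modules} (f : A ⟶ B) (p : ℕ) (a : Coh.HH X A p) :
    Groth.L16.CohLinear.hmap f p a =
      Groth.L16.CohLinear.hmap (Abelian.image.ι f) p (Groth.L16.CohLinear.hmap (Abelian.factorThruImage f) p a) := by
  conv_lhs => rw [show f = Abelian.factorThruImage f ≫ Abelian.image.ι f from (Abelian.image.fac f).symm]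
  rw [Groth.L16.CohLinear.hmap_comp]

/-- A map whose cokernel lives outside a dense open is surjective on top cohomology. -/
theorem surjective_hmap_top {g : ℕ} (hg : topologicalKrullDim X ≤ (g : WithBot ℕ∞)) {A B : X.Modules}
    (f : A ⟶ B) (U : X.Opens) (hU : CodimGE U 1) (hf : CohB1.support (cokernel f) ⊆ (↑U : Set X)ᶜ)
    (p : ℕ) (hp : g ≤ p) :
    Function.Surjective (Groth.L16.CohLinear.hmap f p) := by
  have h1 := shortExact_kernel_image f
  have h2 := shortExact_image_cokernel f
  haveI : Subsingleton (Coh.HH X (kernel f) (p + 1)) :=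
    subsingleton_HH_of_supp hg _ 0 (fun y _ => by
      rw [ringKrullDim_stalk_eq_coheight]
      exact WithBot.coe_le_coe.2 zero_le) (p + 1) (by omega)
  haveI : Subsingleton (Coh.HH X (cokernel f) p) :=
    subsingleton_HH_of_supp hg _ 1 (fun y hy => hU y (hf hy)) p (by omega)
  intro b
  obtain ⟨b', rfl⟩ := (Groth.L16.CohLinear.exact_hmap_hmap h2 p b).1 (Subsingleton.elim _ _)
  obtain ⟨a, rfl⟩ := (Groth.L16.CohLinear.exact_hmap_delta h1 p b').1 (Subsingleton.elim _ _)
  exact ⟨a, hmap_fac f _ a⟩

/-- A map which is an isomorphism in codimension one is bijective on top cohomology. -/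
theorem bijective_hmap_top {g : ℕ} (hg : topologicalKrullDim X ≤ (g : WithBot ℕ∞)) {A B : X.Modules}
    (f : A ⟶ B) (V : X.Opens) (hV : CodimGE V 2) [IsIso ((Scheme.Modules.restrictFunctor V.ι).map f)]
    (p : ℕ) (hp : g ≤ p) (hp1 : 1 ≤ p) :
    Function.Bijective (Groth.L16.CohLinear.hmap f p) := by
  obtain ⟨q, rfl⟩ : ∃ q, p = q + 1 := ⟨p - 1, by omega⟩
  obtain ⟨hk, hc⟩ := (Groth.L16.CohGab.isIso_restrict_iff f V).1 inferInstance
  have h1 := shortExact_kernel_image f
  have h2 := shortExact_image_cokernel f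
  haveI : Subsingleton (Coh.HH X (kernel f) (q + 1)) :=
    subsingleton_HH_of_supp hg _ 2 (fun y hy => hV y (hk hy)) (q + 1) (by omega)
  haveI : Subsingleton (Coh.HH X (kernel f) (q + 1 + 1)) :=
    subsingleton_HH_of_supp hg _ 2 (fun y hy => hV y (hk hy)) (q + 1 + 1) (by omega)
  haveI : Subsingleton (Coh.HH X (cokernel f) q) :=
    subsingleton_HH_of_supp hg _ 2 (fun y hy => hV y (hc hy)) q (by omega)
  haveI : Subsingleton (Coh.HH X (cokernel f) (q + 1)) :=
    subsingleton_HH_of_supp hg _ 2 (fun y hy => hV y (hc hy)) (q + 1) (by omega)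
  refine ⟨(injective_iff_map_eq_zero _).2 fun a ha => ?_, fun b => ?_⟩
  · rw [hmap_fac] at ha
    obtain ⟨w, hw⟩ := (Groth.L16.CohLinear.exact_delta_hmap h2 q _).1 ha
    rw [Subsingleton.elim w 0, map_zero] at hw
    obtain ⟨z, hz⟩ := (Groth.L16.CohLinear.exact_hmap_hmap h1 (q + 1) a).1 hw.symm
    rw [← hz, Subsingleton.elim z 0, map_zero]
  · obtain ⟨b', rfl⟩ := (Groth.L16.CohLinear.exact_hmap_hmap h2 (q + 1) b).1 (Subsingleton.elim _ _)
    obtain ⟨a, rfl⟩ := (Groth.L16.CohLinear.exact_hmap_delta h1 (q + 1) b').1 (Subsingleton.elim _ _)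
    exact ⟨a, hmap_fac f _ a⟩

end Groth.L27.CohAmple
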