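import Groth.Agent.L27.CohAmple.Eval
import Groth.Agent.L27.CohAmple.Proj
import Groth.Agent.L27.AmpleFam.Points
import Groth.Agent.L21.Extend.Gen
import Groth.Agent.L27.CohAmple.Vanish

/-!
# Data for the comparison: frames over the isomorphism locus, opens of small codimension
-/

set_option autoImplicit false
set_option linter.style.haveILetI false
set_option backward.isDefEq.respectTransparency.types false

universe u

open CategoryTheory CategoryTheory.Limits AlgebraicGeometry TopologicalSpace Opposite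

noncomputable section

namespace Groth.L27.CohAmple

variable {X Y : Scheme.{u}} (f : Y ⟶ X)

theorem nonempty_pushUnit_of_isIso [IsIso f] :
    Nonempty ((Scheme.Modules.pushforward f).obj (Coh.structureModule Y) ≅ Coh.structureModule X) := by
  haveI : IsIso ((Scheme.Modules.restrictAdjunction f).unit.app (Coh.structureModule X)) := by
    rw [Scheme.Modules.Hom.isIso_iff_isIso_app]
    intro U
    rw [Scheme.Modules.restrictAdjunction_unit_app_app]
    have e : f ''ᵁ (f ⁻¹ᵁ U) = U := by
      rw [Scheme.Hom.image_preimage_eq_opensRange_inf, Scheme.Hom.opensRange_of_isIso, top_inf_eq]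
    rw [show homOfLE (f.image_preimage_le U) = eqToHom e from Subsingleton.elim _ _, eqToHom_op]
    exact ((Coh.structureModule X).presheaf.mapIso (eqToIso (congrArg op e.symm))).isIso_hom
  exact ⟨(Scheme.Modules.pushforward f).mapIso (Scheme.Modules.restrictUnitIso f).symm ≪≫
    (asIso ((Scheme.Modules.restrictAdjunction f).unit.app (Coh.structureModule X))).symm⟩

/-- Over an isomorphism locus the direct image of the structure sheaf has a frame. -/
theorem exists_frame_pushUnit (U : X.Opens) [IsIso (f ∣_ U)] (x : X) (hx : x ∈ U) :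
    ∃ (W : X.Opens) (e : Γ((Scheme.Modules.pushforward f).obj (Coh.structureModule Y), W)),
      x ∈ W ∧ Groth.L18.Frame.IsFrame ((Scheme.Modules.pushforward f).obj (Coh.structureModule Y)) W e := by
  obtain ⟨φ⟩ := nonempty_pushUnit_of_isIso (f ∣_ U)
  obtain ⟨e, he⟩ := Groth.L21.Extend.exists_gen_of_iso _ (O := U)
    (pushRestrict f U (Coh.structureModule Y) ≪≫
      (Scheme.Modules.pushforward (f ∣_ U)).mapIso (Scheme.Modules.restrictUnitIso (f ⁻¹ᵁ U).ι) ≪≫ φ)
  exact ⟨U, e, hx, fun V h => he V h⟩

theorem codimGE_one_of_dense [IsNoetherian X] (U : X.Opens) (hU : Dense (U : Set X)) : CodimGE U 1 := by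
  intro y hy
  rw [ringKrullDim_stalk_eq_coheight]
  refine WithBot.coe_le_coe.2 (Order.one_le_iff_pos.2 (pos_iff_ne_zero.2 fun h0 => hy ?_))
  refine Groth.L27.AmpleFam.isGen_mem_of_dense U.isOpen hU fun w hw => ?_
  exact (Specializes.antisymm hw (Order.coheight_eq_zero.1 h0 (show y ≤ w from hw))).eq

theorem codimGE_two_of_mem [IsNoetherian X] (V : X.Opens)
    (hV : ∀ y : X, ringKrullDim (X.presheaf.stalk y) ≤ 1 → y ∈ V) : CodimGE V 2 := by
  intro y hy
  have h : ¬ ringKrullDim (X.presheaf.stalk y) ≤ 1 := fun h => hy (hV y h)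
  rw [ringKrullDim_stalk_eq_coheight] at h ⊢
  refine WithBot.coe_le_coe.2 ?_
  have h1 : (1 : ℕ∞) < Order.coheight y := not_le.1 fun h' => h (by exact_mod_cast h')
  exact Order.add_one_le_of_lt h1

theorem isFinite_restrict_le {W W' : X.Opens} (hle : W' ≤ W) [IsFinite (f ∣_ W)] : IsFinite (f ∣_ W') := by
  have e : W' = W.ι ''ᵁ (W.ι ⁻¹ᵁ W') := by
    rw [Scheme.Hom.image_preimage_eq_opensRange_inf, Scheme.Opens.opensRange_ι, inf_eq_right.2 hle]
  rw [e]
  exact (MorphismProperty.arrow_mk_iso_iff (P := @IsFinite) (morphismRestrictRestrict f W (W.ι ⁻¹ᵁ W'))).1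
    (IsZariskiLocalAtTarget.restrict ‹IsFinite (f ∣_ W)› _)

end Groth.L27.CohAmple
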