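import Groth.Agent.L16.HomSh.Adjunction
import Groth.Agent.L21.Mod.Stalks

/-!
# Evaluation is surjective where the source is invertible
-/

set_option autoImplicit false
set_option backward.isDefEq.respectTransparency false
set_option backward.isDefEq.respectTransparency.types false

universe u

open CategoryTheory CategoryTheory.Limits AlgebraicGeometry TopologicalSpace Opposite

noncomputable section

namespace Groth.L27.CohAmple

open Groth.L16.HomSh
open Groth.L18.Frame (rs ro rs_rs rs_smul rs_self ro_ro IsFrame)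
open Groth.L18.GenLoc (tens)

variable {X : Scheme.{u}}

/-- With a frame of `M`, every section of `N` is the value of a homomorphism on the frame. -/
theorem exists_sec_of_frame {M N : X.Modules} {W : X.Opens} {e : Γ(M, W)} (he : IsFrame M W e) (g : Γ(N, W)) :
    ∃ s : Sec M N W, ev s le_rfl e = g := by
  choose c hc using fun (V : X.Opens) (h : V ≤ W) (x : Γ(M, V)) => (he V h).2 x
  have huniq : ∀ (V : X.Opens) (h : V ≤ W) (x : Γ(M, V)) (a : Γ(X, V)), a • rs M h e = x → c V h x = a :=
    fun V h x a ha => (he V h).1 ((hc V h x).trans ha.symm)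
  refine ⟨⟨fun V => AddMonoidHom.mk' (fun x => c V.1 V.2 x • rs N V.2 g) (fun a b => ?_), ?_, ?_⟩, ?_⟩
  · rw [← add_smul]
    congr 1
    exact huniq _ _ _ _ (by rw [add_smul]; exact congrArg₂ (· + ·) (hc _ _ a) (hc _ _ b))
  · intro V V' h h' x
    show rs N h' (c V h x • rs N h g) = c V' (h'.trans h) (rs M h' x) • rs N (h'.trans h) g
    rw [rs_smul, rs_rs]
    congr 1
    refine (huniq V' (h'.trans h) _ _ ?_).symm
    rw [show rs M (h'.trans h) e = rs M h' (rs M h e) from (rs_rs _ _ _ _).symm, ← rs_smul]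
    exact congrArg (rs M h') (hc V h x)
  · intro V h a x
    show c V h (a • x) • rs N h g = a • c V h x • rs N h g
    rw [← mul_smul]
    congr 1
    refine huniq V h _ _ ?_
    rw [mul_smul]
    exact congrArg (a • ·) (hc V h x)
  · show c W le_rfl e • rs N le_rfl g = g
    rw [huniq W le_rfl e 1 (by rw [one_smul, rs_self]), one_smul, rs_self]

/-- The cokernel of evaluation is supported off the open where the source is invertible. -/
theorem support_cokernel_evalMod (M N : X.Modules) (U : X.Opens)
    (hU : ∀ x ∈ U, ∃ (W : X.Opens) (e : Γ(M, W)), x ∈ W ∧ IsFrame M W e) :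
    CohB1.support (cokernel (evalMod M N)) ⊆ (↑U : Set X)ᶜ := by
  intro x hx hxU
  apply hx
  have hsurj : Function.Surjective ((Groth.L21.Mod.stalkF X x).map (evalMod M N)) := by
    intro t
    obtain ⟨V, hxV, g, rfl⟩ := TopCat.Presheaf.exists_germ_eq (F := N.presheaf) (x := x) t
    obtain ⟨W, e, hxW, he⟩ := hU x hxU
    let O := V ⊓ W
    obtain ⟨s, hs⟩ := exists_sec_of_frame (he.mono (inf_le_right : O ≤ W)) (rs N (inf_le_left : O ≤ V) g)
    refine ⟨(CohB1.tensorMod M (homMod M N)).presheaf.germ O x ⟨hxV, hxW⟩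
      (tens M (homMod M N) O (rs M inf_le_right e) ((secEquiv O).symm s)), ?_⟩
    refine (Groth.L21.Mod.stalkF_map_germ (evalMod M N) O x ⟨hxV, hxW⟩ _).trans ?_
    rw [evalMod_tens, LinearEquiv.apply_symm_apply, hs]
    exact TopCat.Presheaf.germ_res_apply _ _ _ _ _
  have hepi := (Groth.L21.Mod.epi_iff_stalk_surjective (cokernel.π (evalMod M N))).1 inferInstance x
  refine ⟨fun a b => ?_⟩
  obtain ⟨a', rfl⟩ := hepi a
  obtain ⟨b', rfl⟩ := hepi b
  obtain ⟨a'', rfl⟩ := hsurj a'
  obtain ⟨b'', rfl⟩ := hsurj b'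
  have h0 : (Groth.L21.Mod.stalkF X x).map (evalMod M N) ≫ (Groth.L21.Mod.stalkF X x).map (cokernel.π (evalMod M N)) =
      (Groth.L21.Mod.stalkF X x).map 0 := by
    rw [← Functor.map_comp, cokernel.condition]
  rw [Functor.map_zero] at h0
  exact (congr($h0 a'')).trans (congr($h0 b'')).symm

end Groth.L27.CohAmple
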