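import Groth.Agent.L27.CohAmple.Top
import Groth.Agent.L16.HomSh.Coherent
import Groth.Agent.L15.Ref.Tensor
import Groth.Agent.L16.Rees.RelVanish
import Groth.Agent.L16.Exist.PushPull
import Groth.Agent.L03.BlowAcyc.PnPoints
import Groth.Agent.L17.ToAbRpush
import Groth.Agent.S8127
import Groth.Agent.S10860
import Groth.Agent.S13532
import Groth.Agent.L22.Inter.Fga

/-!
# Vanishing of top cohomology for modules whose pullback is ample in codimension one
-/

set_option autoImplicit false
set_option linter.style.haveILetI false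
set_option backward.isDefEq.respectTransparency.types false

universe u

open CategoryTheory CategoryTheory.Limits AlgebraicGeometry TopologicalSpace Opposite

noncomputable section

namespace Groth.L27.CohAmple

open Groth.L00.Tensor (tensorAssoc tensorIso tensorPowIso tensorRightF)

variable {X Y : Scheme.{u}}

/-- Twists of a coherent module by an ample one eventually have direct images without cohomology. -/
theorem exists_vanishing_push {A : Type u} [CommRing A] [IsNoetherianRing A]
    (pY : Y ⟶ Spec (CommRingCat.of A)) [IsProper pY] (f : Y ⟶ X) [IsProper f] [IsNoetherian X] [X.IsSeparated]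
    {L : Y.Modules} (hL : CohB1.IsAmple L) {M : Y.Modules} (hM : Coh.IsCoh M) :
    ∃ n₀ : ℕ, ∀ n : ℕ, n₀ ≤ n → ∀ q : ℕ, 0 < q →
      Subsingleton (Coh.HH X ((Coh.push f).obj (CohB1.tensorMod M (CohB1.tensorPow L n))) q) := by
  haveI := Groth.L17.PushQCoh.hasInjectiveResolutions Y
  haveI : IsLocallyNoetherian Y := LocallyOfFiniteType.isLocallyNoetherian f
  haveI : CompactSpace Y := QuasiCompact.compactSpace_of_compactSpace f
  haveI : IsNoetherian Y := { }
  have ha : ∀ W : X.Opens, IsAffineOpen W → CohB1.IsAmple (L.restrict (f ⁻¹ᵁ W).ι) := fun W hW => by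
    haveI : CompactSpace (↑(f ⁻¹ᵁ W) : Scheme.{u}) :=
      isCompact_iff_compactSpace.1 (f.isCompact_preimage hW.isCompact)
    exact (Groth.L18.Ample.isAmple_restrict_iff_pullback _).2
      (Groth.L18.Ample.isAmple_pullback_of_isInducing _ (f ⁻¹ᵁ W).ι.isOpenEmbedding.isInducing hL)
  obtain ⟨n₁, hn₁⟩ := Groth.L16.Rees.RelVanish.exists_isZero_of_relAmple f L hL.1 ha M hM
  obtain ⟨n₂, hn₂⟩ := Groth.L16.Rees.RelVanish.exists_vanishing pY hL hM
  refine ⟨max n₁ n₂, fun n hn q hq => ?_⟩
  let N := CohB1.tensorMod M (CohB1.tensorPow L n)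
  have h0 : ∀ j : ℕ, IsZero ((Coh.RpushAb f (j + 1)).obj (Coh.toAb N)) := fun j => by
    obtain ⟨e⟩ := Groth.L17.nonempty_toAb_Rpush_iso f N (j + 1)
    exact ((Groth.L17.toAbShF X).map_isZero (hn₁ n (le_of_max_le_left hn) (j + 1) j.succ_pos)).of_iso e.symm
  obtain ⟨e⟩ := Groth.L03.BlowAcyc.nonempty_HH_push_of_isZero f N h0 q
  haveI := hn₂ n (le_of_max_le_right hn) q hq
  exact e.toEquiv.symm.subsingleton

/-- Restricting an isomorphism to a smaller open. -/
theorem nonempty_restrict_mono {W W' : Y.Opens} (h : W' ≤ W) {M M' : Y.Modules}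
    (e : M.restrict W.ι ≅ M'.restrict W.ι) : Nonempty (M.restrict W'.ι ≅ M'.restrict W'.ι) :=
  let r := fun K : Y.Modules => ((Scheme.Modules.restrictFunctorCongr (Y.homOfLE_ι h)).app K).symm ≪≫
    (Scheme.Modules.restrictFunctorComp (Y.homOfLE h) W.ι).app K
  ⟨r M ≪≫ (Scheme.Modules.restrictFunctor (Y.homOfLE h)).mapIso e ≪≫ (r M').symm⟩

/-- The cokernel of a twisted map is supported where the cokernel is. -/
theorem support_cokernel_tensorRight (U : X.Opens) {A B : X.Modules} (φ : A ⟶ B) (P : X.Modules)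
    (h : CohB1.support (cokernel φ) ⊆ (↑U : Set X)ᶜ) :
    CohB1.support (cokernel ((tensorRightF P).map φ)) ⊆ (↑U : Set X)ᶜ := by
  rw [← Groth.L16.CohGab.isZero_restrict_iff] at h ⊢
  haveI := Groth.L00.Tensor.preservesColimits_tensorRightF P
  haveI : PreservesColimitsOfSize.{0, 0} (tensorRightF P) := preservesColimitsOfSize_shrink (tensorRightF P)
  haveI := preservesBinaryBiproducts_of_preservesBinaryCoproducts (tensorRightF P)
  haveI : (tensorRightF P).Additive := Functor.additive_of_preservesBinaryBiproducts _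
  refine IsZero.of_iso ?_ ((Scheme.Modules.restrictFunctor U.ι).mapIso
    (PreservesCokernel.iso (tensorRightF P) φ).symm ≪≫ (Groth.L00.Tensor.tensorRestrict U.ι _ _).symm)
  haveI := Groth.L00.Tensor.preservesColimits_tensorRightF (P.restrict U.ι)
  haveI : PreservesColimitsOfSize.{0, 0} (tensorRightF (P.restrict U.ι)) := preservesColimitsOfSize_shrink _
  haveI := preservesBinaryBiproducts_of_preservesBinaryCoproducts (tensorRightF (P.restrict U.ι))
  haveI : (tensorRightF (P.restrict U.ι)).Additive := Functor.additive_of_preservesBinaryBiproducts _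
  exact (tensorRightF (P.restrict U.ι)).map_isZero h

theorem injective_hmap_iso {M M' : X.Modules} (e : M ≅ M') (i : ℕ) :
    Function.Injective (Groth.L16.CohLinear.hmap e.hom i) :=
  Function.LeftInverse.injective (g := Groth.L16.CohLinear.hmap e.inv i) fun x => by
    refine (Groth.L16.CohLinear.hmap_comp e.hom e.inv i x).symm.trans ?_
    rw [e.hom_inv_id]
    exact Groth.L16.CohLinear.hmap_id i x

/-- Top cohomology of twists by a coherent module whose pullback is ample in codimension one. -/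
theorem cohAmple (A : Type u) [CommRing A] [IsNoetherianRing A]
    (pX : X ⟶ Spec (CommRingCat.of A)) (pY : Y ⟶ Spec (CommRingCat.of A)) [IsProper pX] [IsProper pY]
    (f : Y ⟶ X) [IsProper f] (U : X.Opens) (hU : Dense (U : Set X))
    (hU' : Dense ((f ⁻¹ᵁ U : Y.Opens) : Set Y)) (hiso : IsIso (f ∣_ U))
    (d : ℕ) (hd : 1 ≤ d) (hX : topologicalKrullDim X ≤ d)
    (L : Y.Modules) (hL : CohB1.IsAmple L)
    (V : X.Opens) (hV : ∀ y : X, ringKrullDim (X.presheaf.stalk y) ≤ 1 → y ∈ V)
    (F : X.Modules) (hF : Coh.IsCoh F)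
    (hFL : Nonempty (((Scheme.Modules.pullback f).obj F).restrict (f ⁻¹ᵁ V).ι ≅ L.restrict (f ⁻¹ᵁ V).ι))
    (G : X.Modules) (hG : Coh.IsCoh G) :
    ∃ n₀ : ℕ, ∀ n : ℕ, n₀ ≤ n → ∀ i : ℕ, d ≤ i →
      Subsingleton (Coh.HH X (CohB1.tensorMod G (CohB1.tensorPow F n)) i) := by
  haveI : IsLocallyNoetherian X := LocallyOfFiniteType.isLocallyNoetherian pX
  haveI : CompactSpace X := QuasiCompact.compactSpace_of_compactSpace pX
  haveI : IsNoetherian X := { }
  haveI : X.IsSeparated := ⟨(terminal.comp_from pX).symm ▸ (inferInstance : IsSeparated (pX ≫ terminal.from _))⟩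
  haveI : IsLocallyNoetherian Y := LocallyOfFiniteType.isLocallyNoetherian f
  -- where `f` is finite
  obtain ⟨Vf, hVf, hfin⟩ := Groth.Agent.S10860.result f
  let V' := V ⊓ Vf
  haveI := isFinite_restrict_le f (inf_le_right : V' ≤ Vf)
  have hV' : CodimGE V' 2 := codimGE_two_of_mem V' fun y hy => ⟨hV y hy, by
    show y ∈ (Vf : Set X)
    rw [hVf]
    exact Groth.Agent.S13532.result f U hU hU' hiso y hy⟩
  obtain ⟨e₀⟩ := hFL
  obtain ⟨e₁⟩ := nonempty_restrict_mono (f.preimage_mono (inf_le_left : V' ≤ V)) e₀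
  -- the modules
  let B := (Scheme.Modules.pushforward f).obj (Coh.structureModule Y)
  have hB : Coh.IsCoh B := Groth.L16.Exist.isCoh_pushforward f (Groth.L16.Rees.RelVanish.isCoh_structureModule Y)
  let H := Groth.L16.HomSh.homMod B G
  have hH : Coh.IsCoh H := Groth.L16.HomSh.isCoh_homMod hB hG
  have hev : CohB1.support (cokernel (Groth.L16.HomSh.evalMod B G)) ⊆ (↑U : Set X)ᶜ :=
    support_cokernel_evalMod B G U fun x hx => exists_frame_pushUnit f U x hx
  have hfH : Coh.IsCoh ((Scheme.Modules.pullback f).obj H) := Groth.L16.AffineBC.isCoh_pullback f hH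
  obtain ⟨n₀, hn₀⟩ := exists_vanishing_push pY f hL hfH
  refine ⟨n₀, fun n hn i hi => ?_⟩
  rcases Nat.lt_or_ge d i with hlt | hge
  · exact Groth.L22.Inter.subsingleton_HH_of_dim hX _ hlt
  obtain rfl : i = d := le_antisymm hge hi
  let P := CohB1.tensorPow F n
  have hP : Coh.IsCoh P := by
    have key : ∀ m : ℕ, Coh.IsCoh (CohB1.tensorPow F m) := fun m => by
      induction m with
      | zero => exact Groth.L16.Rees.RelVanish.isCoh_structureModule X
      | succ m ih => exact Groth.L15.Ref.isCoh_tensorMod ih hF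
    exact key n
  let K := CohB1.tensorMod H P
  have hK : Coh.IsCoh K := Groth.L15.Ref.isCoh_tensorMod hH hP
  let N := CohB1.tensorMod ((Scheme.Modules.pullback f).obj H) (CohB1.tensorPow L n)
  have hN : Coh.IsCoh N :=
    Groth.L15.Ref.isCoh_tensorMod hfH (Groth.L16.ProperFinite.isCoh_of_isInvertible (Groth.L18.Ample.isInvertible_tensorPow hL.1 n))
  have hpN : Coh.IsCoh ((Scheme.Modules.pushforward f).obj N) := Groth.L16.Exist.isCoh_pushforward f hN
  have hE : Coh.IsCoh (CohB1.tensorMod B K) := Groth.L15.Ref.isCoh_tensorMod hB hK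
  haveI : Coh.IsQCoh K := hK.1
  haveI : IsAffineHom (f ∣_ V') := inferInstance
  obtain ⟨a⟩ := nonempty_pushUnit_tensor_restrict f V' K
  obtain ⟨b⟩ := nonempty_push_restrict_congr f V' (M := (Scheme.Modules.pullback f).obj K) (M' := N)
    ⟨(Scheme.Modules.restrictFunctor (f ⁻¹ᵁ V').ι).mapIso
        ((Groth.L29.DC.PullTensor.pullTensor f H P).symm ≪≫
          tensorIso (Iso.refl _) (Groth.L18.Ample.pullPow f F n)) ≪≫
      Groth.L16.Rees.RelVanish.twistRestrictIso _ _ n ≪≫
      tensorIso (Iso.refl _) (tensorPowIso e₁ n) ≪≫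
      (Groth.L16.Rees.RelVanish.twistRestrictIso _ _ n).symm⟩
  obtain ⟨W, p, q, -, hp, hq⟩ := Groth.Agent.S8127.result X V' _ _ hE hpN (a ≪≫ b)
  haveI := hp
  haveI := hq
  haveI : Subsingleton (Coh.HH X ((Scheme.Modules.pushforward f).obj N) i) := hn₀ n hn i hd
  haveI : Subsingleton (Coh.HH X W i) := (bijective_hmap_top hX q V' hV' i le_rfl hd).1.subsingleton
  haveI : Subsingleton (Coh.HH X (CohB1.tensorMod B K) i) :=
    (bijective_hmap_top hX p V' hV' i le_rfl hd).2.subsingleton
  have hsurj := surjective_hmap_top hX ((tensorRightF P).map (Groth.L16.HomSh.evalMod B G)) U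
    (codimGE_one_of_dense U hU) (support_cokernel_tensorRight U _ P hev) i le_rfl
  let ass : CohB1.tensorMod (CohB1.tensorMod B H) P ≅ CohB1.tensorMod B K := tensorAssoc _ _ _
  haveI : Subsingleton (Coh.HH X ((tensorRightF P).obj (CohB1.tensorMod B H)) i) :=
    (injective_hmap_iso ass i).subsingleton
  exact hsurj.subsingleton

end Groth.L27.CohAmple
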